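import Mathlib
import Cfsg.Agent.MacW.SR

set_option autoImplicit false
set_option linter.style.haveILetI false
set_option linter.unnecessarySimpa false
set_option linter.unusedSectionVars false

/-! Two-groups with an elementary abelian subgroup of order sixteen acted on freely. -/

namespace Cfsg.Agent.MacW
open Cfsg Subgroup Cfsg.Agent.PLocal.Amb

variable {G : Type*} [Group G] [Finite G]

theorem le_or_le_of_subset {B E F : Subgroup G} (h : ∀ x ∈ B, x ∈ E ∨ x ∈ F) : B ≤ E ∨ B ≤ F := by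
  by_contra hcon
  push Not at hcon
  obtain ⟨a, ha, haE⟩ := SetLike.not_le_iff_exists.1 hcon.1
  obtain ⟨b, hb, hbF⟩ := SetLike.not_le_iff_exists.1 hcon.2
  rcases h _ (mul_mem ha hb) with e | e
  · exact haE (by simpa using mul_mem e (inv_mem ((h b hb).resolve_right hbF)))
  · exact hbF (by simpa using mul_mem (inv_mem ((h a ha).resolve_left haE)) e)

theorem sq_cj {E : Subgroup G} (hsq : ∀ a ∈ E, a ^ 2 = 1) (s : G) : ∀ a ∈ cj(s, E), a ^ 2 = 1 := by
  rintro _ ⟨a, ha, rfl⟩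
  rw [← map_pow, hsq a ha, map_one]

namespace SR

theorem E16_norm {E M : Subgroup G} (h16 : Nat.card E = 16) (hEM : E ≤ M)
    (h64 : Nat.card M ≤ 64)
    (hfree : ∀ x ∈ M, x ∉ E → Nat.card (E ⊓ centralizer {x} : Subgroup G) ≤ 4) : SR 4 M := by
  intro N H h1 h2 h3 _
  have hN : 0 < Nat.card N := Nat.card_pos
  by_cases hHE : H ≤ E
  · have := card_le_of_le hHE; omega
  obtain ⟨x, hx, hxE⟩ := SetLike.not_le_iff_exists.1 hHE
  have c1 := card_le_mul_inf h2 hEM (b := 4) (by omega)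
  have c2 := card_le_cm (H ⊓ E) N (a := x) fun u hu => h3 x hx u hu.1
  have c3 := (card_le_of_le (inf_le_inf_right (centralizer {x}) (inf_le_right : H ⊓ E ≤ E))).trans
    (hfree x (h2 hx) hxE)
  nlinarith

theorem E16 {X E : Subgroup G} (hX : IsPGroup 2 X) (hE : E ≤ X) (hsq : ∀ a ∈ E, a ^ 2 = 1)
    (h16 : Nat.card E = 16) (h64 : Nat.card (X ⊓ 𝐍[E] : Subgroup G) ≤ 64)
    (hfree : ∀ x ∈ X ⊓ 𝐍[E], x ∉ E → Nat.card (E ⊓ centralizer {x} : Subgroup G) ≤ 4) :
    SR 4 X := by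
  set M := X ⊓ 𝐍[E] with hMdef
  have hEM : E ≤ M := le_inf hE le_normalizer
  have hSM := E16_norm h16 hEM h64 hfree
  by_cases hM : M = X
  · exact hM ▸ hSM
  obtain ⟨s, hs, hsM⟩ := SetLike.exists_of_lt (lt_inf_normalizer hX (lt_of_le_of_ne inf_le_left hM))
  set F := cj(s, E) with hFdef
  have hFM : F ≤ M := cj_le_of_mem_normalizer hEM hs.2
  have hFsq := sq_cj hsq s
  have hF16 : Nat.card F = 16 := by rw [card_cj, h16]
  have hFE : F ≠ E := fun e => hsM ⟨hs.1, cj_eq_iff.1 e⟩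
  have hMF : M ≤ 𝐍[F] := by
    rw [normalizer_cj]
    exact (cj_of_mem_normalizer (Q := M) hs.2).ge.trans (cj_mono _ inf_le_right)
  have hU : ∀ f ∈ F, E ⊓ F ≤ E ⊓ centralizer {f} := fun f hf u hu =>
    ⟨hu.1, mem_centralizer_singleton_iff.2 (comm_of_sq hFsq hu.2 hf)⟩
  obtain ⟨f0, hf0, hf0E⟩ : ∃ f ∈ F, f ∉ E := by
    by_contra hcon
    push Not at hcon
    exact hFE (eq_of_le_of_card_ge hcon (by omega))
  have hU4 := (card_le_of_le (hU f0 hf0)).trans (hfree f0 (hFM hf0) hf0E)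
  have e1 := Grp.card_sup_mul_card_inf_of_le_normalizer (hEM.trans hMF)
  have e2 := card_le_of_le (sup_le hEM hFM)
  rw [h16, hF16] at e1
  have hU4' : 4 ≤ Nat.card (E ⊓ F : Subgroup G) := by nlinarith
  have hEF : E ⊔ F = M := eq_of_le_of_card_ge (sup_le hEM hFM) (by nlinarith)
  have hM64 : Nat.card M = 64 := by rw [← hEF]; nlinarith
  have hdec : ∀ x ∈ M, ∃ e ∈ E, ∃ f ∈ F, x = e * f := fun x hx =>
    (mem_sup_of_le_normalizer_right (hEM.trans hMF)).1 (hEF.ge hx)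
  have hinv : ∀ x ∈ M, x ^ 2 = 1 → x ∈ E ∨ x ∈ F := fun x hx h2 => by
    obtain ⟨e, he, f, hf, rfl⟩ := hdec x hx
    by_cases hfE : f ∈ E
    · exact Or.inl (mul_mem he hfE)
    refine Or.inr (mul_mem ?_ hf)
    have hc : e * f = f * e := by
      have i1 : e⁻¹ = e := by rw [inv_eq_iff_mul_eq_one, ← sq, hsq e he]
      have i2 : f⁻¹ = f := by rw [inv_eq_iff_mul_eq_one, ← sq, hFsq f hf]
      rw [sq, ← eq_inv_iff_mul_eq_one, mul_inv_rev, i1, i2] at h2
      exact h2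
    exact ((eq_of_le_of_card_ge (hU f hf) ((hfree f (hFM hf) hfE).trans hU4')).ge
      ⟨he, mem_centralizer_singleton_iff.2 hc⟩).2
  have hB : ∀ B ≤ M, (∀ b ∈ B, b ^ 2 = 1) → Nat.card B = 16 → B = E ∨ B = F := fun B hB h2 hc =>
    (le_or_le_of_subset fun x hx => hinv x (hB hx) (h2 x hx)).imp
      (fun e => eq_of_le_of_card_ge e (by omega)) fun e => eq_of_le_of_card_ge e (by omega)
  set Q := X ⊓ 𝐍[M] with hQ
  have hMQ : M ≤ Q := le_inf inf_le_left le_normalizer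
  have hswap : ∀ g ∈ Q, g ∉ M → cj(g, E) = F ∧ cj(g, F) = E := fun g hg hgM => by
    have h1 : cj(g, E) = F := (hB _ (cj_le_of_mem_normalizer hEM hg.2) (sq_cj hsq g)
      (by rw [card_cj, h16])).resolve_left fun e => hgM ⟨hg.1, cj_eq_iff.1 e⟩
    refine ⟨h1, (hB _ (cj_le_of_mem_normalizer hFM hg.2) (sq_cj hFsq g)
      (by rw [card_cj, hF16])).resolve_right fun e => hFE ?_⟩
    exact cj_inj.1 (e.trans h1.symm)
  have hQ2 : Nat.card Q ≤ 2 * Nat.card M := by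
    have := card_le_ncard_mul Q M (T := {E, F}) (Set.toFinite _) (fun g => cj(g, E))
      (fun g hg => by
        by_cases hgM : g ∈ M
        · exact Or.inl (cj_of_mem_normalizer hgM.2)
        · exact Or.inr (hswap g hg hgM).1)
      fun x hx y hy e => mem_inf.2 ⟨mul_mem (inv_mem (mem_inf.1 hx).1) hy.1, by
        rw [← cj_eq_iff, cj_mul, ← e, cj_inv_cj]⟩
    rw [inf_of_le_right hMQ] at this
    exact this.trans (Nat.mul_le_mul_right _ ((Set.ncard_insert_le _ _).trans (by simp)))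
  have hmemU : ∀ {B : Subgroup G}, B ≤ Q → (∀ x ∈ B ⊓ M, x ^ 2 = 1) → ∀ b ∈ B, b ∉ M →
      B ⊓ M ≤ E ⊓ F := fun {B} hBQ h2 b hb hbM => by
    have hc' : ∀ x ∈ B ⊓ M, b⁻¹ * x * b⁻¹⁻¹ ∈ B ⊓ M := fun x hx =>
      mem_inf.2 ⟨mul_mem (mul_mem (inv_mem hb) hx.1) (inv_mem (inv_mem hb)),
        conj_mem_of_mem_normalizer (inv_mem (mem_inf.1 (hBQ hb)).2) hx.2⟩
    obtain ⟨k1, k2⟩ := hswap b (hBQ hb) hbM
    rcases le_or_le_of_subset (B := B ⊓ M) fun x hx => hinv x hx.2 (h2 x hx) with e | e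
    · refine le_inf e fun x hx => ?_
      rw [← k1, mem_cj]
      simpa using e (hc' x hx)
    · refine le_inf (fun x hx => ?_) e
      rw [← k2, mem_cj]
      simpa using e (hc' x hx)
  have hin : ∀ B ≤ Q, (∀ b ∈ B, b ^ 2 = 1) → Nat.card B = 16 → B ≤ M := fun B hBQ h2 hc => by
    by_contra hne
    obtain ⟨b, hb, hbM⟩ := SetLike.not_le_iff_exists.1 hne
    have c1 := card_le_of_le (hmemU hBQ (fun x hx => h2 x hx.1) b hb hbM)
    have c2 := card_le_mul_inf hBQ hMQ hQ2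
    omega
  have hQX : Q = X := eq_of_inf_normalizer_le hX inf_le_left fun g hg => ⟨hg.1, by
    refine mem_normalizer_of_cj_le ?_
    rw [← hEF, cj_sup, hEF]
    exact sup_le (hin _ (cj_le_of_mem_normalizer (hEM.trans hMQ) hg.2) (sq_cj hsq g)
      (by rw [card_cj, h16])) (hin _ (cj_le_of_mem_normalizer (hFM.trans hMQ) hg.2) (sq_cj hFsq g)
      (by rw [card_cj, hF16]))⟩
  intro N H h1 h2 h3 h4
  by_cases hHM : H ≤ M
  · exact hSM N H h1 hHM h3 h4
  obtain ⟨h, hh, hhM⟩ := SetLike.not_le_iff_exists.1 hHM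
  rw [← hQX] at h2
  obtain ⟨k1, k2⟩ := hswap h (h2 hh) hhM
  have hN : 0 < Nat.card N := Nat.card_pos
  have c0 := card_le_mul_inf h2 hMQ hQ2
  have hsqU : ∀ x ∈ M, x ^ 2 ∈ E ⊓ F := fun x hx => by
    obtain ⟨e, he, f, hf, rfl⟩ := hdec x hx
    have i1 : e⁻¹ = e := by rw [inv_eq_iff_mul_eq_one, ← sq, hsq e he]
    have i2 : f⁻¹ = f := by rw [inv_eq_iff_mul_eq_one, ← sq, hFsq f hf]
    constructor
    · have := mul_mem he (conj_mem_of_mem_normalizer (hFM hf).2 he)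
      rwa [i2, ← mul_assoc, ← mul_assoc, mul_assoc (e * f), ← sq] at this
    · have := mul_mem (conj_mem_of_mem_normalizer (hMF (hEM he)) hf) hf
      rwa [i1, mul_assoc (e * f), ← sq] at this
  by_cases hall : ∀ x ∈ H ⊓ M, x ^ 2 = 1
  · have := card_le_of_le (hmemU h2 hall h hh hhM)
    omega
  push Not at hall
  obtain ⟨x, hx, hx2⟩ := hall
  have hUn : M ≤ 𝐍[E ⊓ F] := le_normalizer_inf inf_le_right hMF
  let D : Subgroup G :=
    { carrier := {u | u ∈ M ∧ cm h u ∈ E ⊓ F}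
      one_mem' := ⟨one_mem _, by simpa [cm] using one_mem (E ⊓ F)⟩
      mul_mem' := fun {u v} hu hv => ⟨mul_mem hu.1 hv.1, by
        convert mul_mem hu.2 (conj_mem_of_mem_normalizer (hUn hu.1) hv.2) using 1
        unfold cm; group⟩
      inv_mem' := fun {u} hu => ⟨inv_mem hu.1, by
        convert inv_conj_mem_of_mem_normalizer (hUn hu.1) (inv_mem hu.2) using 1
        unfold cm; group⟩ }
  have hD : Nat.card D ≤ 16 := by
    have c1 := card_le_mul_inf (show D ≤ M from fun u hu => hu.1) hEM (b := 4) (by omega)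
    have c2 : D ⊓ E ≤ E ⊓ F := fun u hu => mem_inf.2 ⟨hu.2, by
      have m1 : h * u * h⁻¹ ∈ E := by
        simpa [cm] using mul_mem (mem_inf.1 hu.1.2).1 (mem_inf.1 hu).2
      rw [← k2, conj_mem_cj_iff] at m1
      exact m1⟩
    have := card_le_of_le c2
    omega
  have hU1 : 2 ≤ Nat.card (E ⊓ F ⊓ (N ⊓ M) : Subgroup G) := by
    have := two_mul_le_of_lt (bot_le : ⊥ ≤ E ⊓ F ⊓ (N ⊓ M))
      ⟨hsqU x hx.2, h4 x hx.1, pow_mem (mem_inf.1 hx).2 2⟩ (by simpa using hx2)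
    rwa [card_bot] at this
  have hm : ∀ u ∈ H ⊓ M, cm h u ∈ N ⊓ M := fun u hu => mem_inf.2 ⟨h3 h hh u hu.1,
    mul_mem (conj_mem_of_mem_normalizer (h2 hh).2 hu.2) (inv_mem (mem_inf.1 hu).2)⟩
  classical
  have c1 := card_le_ncard_mul (H ⊓ M) D (T := Set.univ) (Set.toFinite _)
    (fun u => if hu : u ∈ H ⊓ M then
      ((⟨_, hm u hu⟩ : (N ⊓ M : Subgroup G)) : _ ⧸ (E ⊓ F).subgroupOf (N ⊓ M)) else (1 : (N ⊓ M : Subgroup G)))
    (fun _ _ => Set.mem_univ _) fun u hu v hv e => by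
      simp only [hu, hv, dif_pos] at e
      refine ⟨mul_mem (inv_mem (mem_inf.1 hu).2) hv.2, ?_⟩
      convert inv_conj_mem_of_mem_normalizer (hUn hu.2) (mem_subgroupOf.1 (QuotientGroup.eq.1 e)) using 1
      simp only [cm, coe_mul, InvMemClass.coe_inv]; group
  rw [Set.ncard_univ] at c1
  have c2 := Grp.card_inf_mul_relIndex' (E ⊓ F) (N ⊓ M)
  have c3 := card_le_of_le (inf_le_left : N ⊓ M ≤ N)
  have c4 := (card_le_of_le (inf_le_right : H ⊓ M ⊓ D ≤ D)).trans hD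
  change _ ≤ (E ⊓ F).relIndex (N ⊓ M) * _ at c1
  nlinarith

theorem E16' {X E B : Subgroup G} (hX : IsPGroup 2 X) (hE : E ≤ X) (hsq : ∀ a ∈ E, a ^ 2 = 1)
    (h16 : Nat.card E = 16) (hB : B ≤ E) (h4 : Nat.card B = 4)
    (hC : ∀ b ∈ B, b ≠ 1 → X ⊓ centralizer {b} ≤ E) : SR 4 X := by
  have key : ∀ Y ≤ E, 4 < Nat.card Y → ∃ b ∈ B, b ≠ 1 ∧ b ∈ Y := fun Y hY h => by
    by_contra hcon
    push Not at hcon
    have h1 : B ⊓ Y = ⊥ := eq_bot_iff.2 fun b hb => by_contra fun e => hcon b hb.1 e hb.2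
    have h2 := Grp.card_sup_mul_card_inf_of_le_normalizer (H := B) (N := Y)
      fun b hb => mem_norm_of_comm fun y hy => comm_of_sq hsq (hY hy) (hB hb)
    have h3 := card_le_of_le (sup_le hB hY)
    rw [h1, card_bot, h4] at h2
    omega
  refine E16 hX hE hsq h16 ?_ fun x hx hxE => ?_
  · set M := X ⊓ 𝐍[E]
    have hEM : E ≤ M := le_inf hE le_normalizer
    haveI := normal_subgroupOf' (inf_le_right : M ≤ 𝐍[E])
    obtain ⟨C, hn, hCE, hc⟩ := Grp.PChain.exists_normal_le_card (hX.to_le (inf_le_left : M ≤ X))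
      (E.subgroupOf M) 3 (by rw [Grp.card_subgroupOf_of_le hEM, h16]; norm_num)
    have hc' : Nat.card (C.map M.subtype) = 8 := by
      rw [card_map_of_injective M.subtype_injective, hc]; rfl
    obtain ⟨b, hb, hb1, hbC⟩ := key (C.map M.subtype) (by
      rintro _ ⟨x, hx, rfl⟩; exact hCE hx) (by omega)
    have h1 := card_le_ncard_mul M (centralizer {b}) (T := (C.map M.subtype : Set G) \ {1})
      (Set.toFinite _) (fun m => m * b * m⁻¹)
      (fun m hm => ⟨conj_mem_of_mem_normalizer (le_normalizer_map_subtype C hm) hbC,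
        fun e => hb1 (conj_eq_one_iff.1 e)⟩)
      fun x _ y _ e => mem_centralizer_singleton_iff.2 (by
        calc x⁻¹ * y * b = x⁻¹ * (y * b * y⁻¹) * y := by group
          _ = _ := by rw [← e]; group)
    rw [Set.ncard_sdiff_singleton_of_mem (one_mem _)] at h1
    have h2 : Nat.card (M ⊓ centralizer {b} : Subgroup G) ≤ Nat.card E :=
      card_le_of_le ((inf_le_inf_right _ (inf_le_left : M ≤ X)).trans (hC b hb hb1))
    have h3 : (C.map M.subtype : Set G).ncard = 8 := hc'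
    refine card_le_of_lt' hX (inf_le_left : M ≤ X) 6 (show Nat.card M < _ from ?_)
    rw [h3] at h1
    omega
  · by_contra hlt
    obtain ⟨b, hb, hb1, hbx⟩ := key _ inf_le_left (not_le.1 hlt)
    exact hxE (hC b hb hb1 ⟨hx.1, mem_centralizer_singleton_iff.2
      (mem_centralizer_singleton_iff.1 hbx.2).symm⟩)

end SR
end Cfsg.Agent.MacW
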