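import Mathlib
import Cfsg.Agent.MacW.SR

set_option autoImplicit false
set_option linter.style.haveILetI false
set_option linter.unnecessarySimpa false
set_option linter.unusedSectionVars false

/-! A self-centralizing central product of two quaternion groups. -/

namespace Cfsg.Agent.MacW.QQ
open Cfsg Subgroup Cfsg.Agent.PLocal.Amb QuaternionGroup
open scoped commutatorElement

abbrev M := QuaternionGroup 2 × QuaternionGroup 2

def kk : M := (a 2, a 2)

def rot : QuaternionGroup 2 → QuaternionGroup 2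
  | a i => if i = 1 ∨ i = 3 then xa 0 else a 0
  | xa i => if i = 0 ∨ i = 2 then xa 1 else a 1

def P (s : QuaternionGroup 2 → QuaternionGroup 2) (p : M) : Prop := s p.1 = p.2 ∨ s p.1 = p.2 * a 2

instance (s : QuaternionGroup 2 → QuaternionGroup 2) : DecidablePred (P s) := fun _ => by
  unfold P; infer_instance

def E (p q : M) : Prop := p = q ∨ p = q * kk

instance (p q : M) : Decidable (E p q) := by unfold E; infer_instance

def Zc (p : M) : Prop := p = 1 ∨ p = kk ∨ p = (a 2, 1) ∨ p = (1, a 2)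

instance : DecidablePred Zc := fun _ => by unfold Zc; infer_instance

structure Good (s : QuaternionGroup 2 → QuaternionGroup 2) (x y : M) : Prop where
  one : P s 1
  mul : ∀ p q, P s p → P s q → P s (p * q)
  inv : ∀ p, P s p → P s p⁻¹
  conj : ∀ p g, P s p → P s (g * p * g⁻¹)
  kk : P s kk
  card : (Finset.univ.filter (P s)).card = 16
  sq : ∀ p, P s p → E (p ^ 2) 1
  sqx : E (x ^ 2) 1 ∧ E (y ^ 2) 1 ∧ E (x * y) (y * x)
  dec : ∀ p, ∃ b, P s b ∧ (p = b ∨ p = b * x ∨ p = b * y ∨ p = b * (x * y))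
  cent : ∀ p, (∀ b, P s b → E (p * b) (b * p)) → P s p
  key : ∀ u v, P s u → P s v → E ((u * x) ^ 2) 1 → E ((v * y) ^ 2) 1 →
    E (u * x * (v * y)) (v * y * (u * x)) →
    (∃ w, P s w ∧ E (w * x * w⁻¹) (u * x) ∧ E (w * y * w⁻¹) (v * y)) ∨
      (¬ Zc u ∧ ¬ Zc v ∧ ¬ Zc (u * x * (v * y) * (x * y)⁻¹))

set_option synthInstance.maxSize 2000 in
theorem good1 : Good id (a 1, xa 0) (xa 0, xa 1) := by
  constructor <;> decide +kernel

set_option synthInstance.maxSize 2000 in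
theorem good2 : Good rot (a 1, a 1) (xa 0, xa 0) := by
  constructor <;> decide +kernel

theorem inter : ∀ p, P id p → P rot p → Zc p := by decide +kernel

theorem cen : ∀ p : M, p ≠ 1 → (∀ g, g * p * g⁻¹ = p) → p = kk ∨ p = (a 2, 1) ∨ p = (1, a 2) := by
  decide +kernel

theorem zc_E : ∀ p, Zc p ↔ E p 1 ∨ E p (a 2, 1) := by decide +kernel

theorem zc_c : ∀ p g, Zc (g * p * g⁻¹) → Zc p := by decide +kernel

def sub {s : QuaternionGroup 2 → QuaternionGroup 2} {x y : M} (h : Good s x y) : Subgroup M where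
  carrier := {p | P s p}
  one_mem' := h.one
  mul_mem' := h.mul _ _
  inv_mem' := h.inv _

variable {S : Type*} [Group S] [Finite S] {f : M →* S} (hf : ∀ p, f p = 1 ↔ p = 1 ∨ p = kk)
include hf

theorem E_iff {p q : M} : f p = f q ↔ E p q := by
  rw [← inv_mul_eq_one, ← map_inv, ← map_mul, hf, inv_mul_eq_one, E, inv_mul_eq_iff_eq_mul]
  refine or_congr Iff.rfl ?_
  revert p q; decide +kernel

theorem Z_iff {p : M} : f p ∈ zpowers (f (a 2, 1)) ↔ Zc p := by
  have h2 : f (a 2, 1) ^ 2 = 1 := by rw [← map_pow, hf]; left; decide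
  rw [zc_E, ← E_iff hf, ← E_iff hf, map_one]
  exact ⟨HB.mem_zpowers_two h2, by rintro (e | e) <;> rw [e]; exacts [one_mem _, mem_zpowers _]⟩

theorem step (hS : IsPGroup 2 S) (hC : 𝐂[f.range] ≤ f.range)
    {s : QuaternionGroup 2 → QuaternionGroup 2} {x y : M} (h : Good s x y)
    (hn : ¬ SectionalPRankLE 2 4 S) :
    ∃ t ∈ 𝐍[f.range], ∀ p, cm t (f p) ∈ zpowers (f (a 2, 1)) → P s p := by
  set A := (sub h).map f with hA
  have hsq : ∀ q ∈ A, q ^ 2 = 1 := by
    rintro _ ⟨p, hp, rfl⟩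
    rw [← map_pow, ← map_one f, E_iff hf]; exact h.sq p hp
  have h8 : Nat.card A = 8 := by
    have e := Grp.card_map_mul_card_ker_inf f (sub h)
    have e1 : Nat.card (sub h) = 16 := by
      rw [← h.card]; exact Nat.subtype_card _ fun p => by simp; rfl
    have e2 : f.ker ⊓ sub h = zpowers kk := le_antisymm (fun p hp => by
      rcases (hf p).1 hp.1 with rfl | rfl
      exacts [one_mem _, mem_zpowers _]) (zpowers_le.2 ⟨(hf _).2 (Or.inr rfl), h.kk⟩)
    rw [e1, e2, Nat.card_zpowers, orderOf_eq_prime (p := 2) (by decide) (by decide)] at e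
    exact Nat.eq_of_mul_eq_mul_right two_pos e
  have hQA : f.range ≤ 𝐍[A] := le_normalizer_iff_cj.2 (by
    rintro _ ⟨g, rfl⟩
    refine cj_le_iff_forall.2 ?_
    rintro _ ⟨p, hp, rfl⟩
    exact ⟨_, h.conj p g hp, by simp⟩)
  have hne : ¬ (𝐂[A]).subgroupOf 𝐍[A] ≤ A.subgroupOf 𝐍[A] := fun e => hn
    (HB.harada hS hsq h8 fun t ht => by
      have : t ∈ 𝐂[A] := fun q hq => (ht q hq).symm
      exact e (x := ⟨t, centralizer_le_normalizer' _ this⟩) this)
  haveI := (hS.to_subgroup 𝐍[A]).isNilpotent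
  haveI := normal_subgroupOf' (normalizer_le_normalizer_centralizer A)
  obtain ⟨⟨t, htN⟩, htC, htA, ht⟩ := Grp.PChain.exists_central_mod _ _ hne
  replace htC : t ∈ 𝐂[A] := htC
  replace htA : t ∉ A := htA
  have ht' : ∀ p, ∃ u, P s u ∧ t * f p * t⁻¹ = f (u * p) := fun p => by
    obtain ⟨u, hu, e⟩ := mem_subgroupOf.1 (ht ⟨f p, hQA ⟨p, rfl⟩⟩)
    refine ⟨u, hu, ?_⟩
    rw [map_mul, e]; simp [commutatorElement_def]
  have htb : ∀ b, P s b → t * f b * t⁻¹ = f b := fun b hb => by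
    rw [← htC _ ⟨b, hb, rfl⟩, mul_inv_cancel_right]
  have htn : t ∈ 𝐍[f.range] := mem_normalizer_of_cj_le (cj_le_iff_forall.2 (by
    rintro _ ⟨p, rfl⟩
    obtain ⟨u, -, e⟩ := ht' p
    exact ⟨_, e.symm⟩))
  refine ⟨t, htn, fun p hp => ?_⟩
  obtain ⟨u, hu, eu⟩ := ht' x
  obtain ⟨v, hv, ev⟩ := ht' y
  have hxy : t * f (x * y) * t⁻¹ = f (u * x * (v * y)) := by
    rw [map_mul f (u * x), ← eu, ← ev, map_mul]; group
  rcases h.key u v hu hv
    (by rw [← E_iff hf, map_pow, ← eu, conj_pow, ← map_pow, (E_iff hf).2 h.sqx.1]; simp)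
    (by rw [← E_iff hf, map_pow, ← ev, conj_pow, ← map_pow, (E_iff hf).2 h.sqx.2.1]; simp)
    (by rw [← E_iff hf, ← hxy, (E_iff hf).2 h.sqx.2.2, map_mul f (v * y), ← eu, ← ev, map_mul]; group)
    with ⟨w, hw, w1, w2⟩ | ⟨k1, k2, k3⟩
  · exfalso
    rw [← E_iff hf, ← eu, map_mul, map_mul, map_inv] at w1
    rw [← E_iff hf, ← ev, map_mul, map_mul, map_inv] at w2
    have c : ∀ q, f w * q * (f w)⁻¹ = t * q * t⁻¹ → Commute q ((f w)⁻¹ * t) := fun q e => by
      calc q * ((f w)⁻¹ * t) = (f w)⁻¹ * (f w * q * (f w)⁻¹) * t := by group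
        _ = _ := by rw [e]; group
    have cb : ∀ b, P s b → Commute (f b) ((f w)⁻¹ * t) := fun b hb =>
      (show Commute (f b) (f w) from comm_of_sq hsq ⟨b, hb, rfl⟩ ⟨w, hw, rfl⟩).inv_right.mul_right
        (htC _ ⟨b, hb, rfl⟩)
    obtain ⟨q, hq⟩ := hC (show (f w)⁻¹ * t ∈ 𝐂[f.range] by
      rintro _ ⟨p, rfl⟩
      obtain ⟨b, hb, rfl | rfl | rfl | rfl⟩ := h.dec p
      · exact cb _ hb
      · rw [map_mul]; exact (cb _ hb).mul_left (c _ w1)
      · rw [map_mul]; exact (cb _ hb).mul_left (c _ w2)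
      · rw [map_mul, map_mul]; exact (cb _ hb).mul_left ((c _ w1).mul_left (c _ w2)))
    have e : t = f (w * q) := by rw [map_mul, hq]; group
    refine htA ⟨w * q, h.cent _ fun b hb => ?_, e.symm⟩
    rw [← E_iff hf, map_mul, map_mul f b, ← e]
    exact (htC _ ⟨b, hb, rfl⟩).symm
  · obtain ⟨b, hb, e⟩ := h.dec p
    have k : ∀ c r, t * f c * t⁻¹ = f r → p = b * c → Zc (r * c⁻¹) := fun c r e1 e2 => by
      refine zc_c _ b ((Z_iff hf).1 ?_)
      convert hp using 1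
      simp only [e2, cm, map_mul, map_inv, ← e1]
      nth_rewrite 1 [← htb b hb]
      group
    rcases e with rfl | e | e | e
    · exact hb
    · exact absurd (by simpa using k _ _ eu e) k1
    · exact absurd (by simpa using k _ _ ev e) k2
    · exact absurd (k _ _ hxy e) k3

theorem main (hS : IsPGroup 2 S) (hC : 𝐂[f.range] ≤ f.range) : SectionalPRankLE 2 4 S := by
  by_contra hn
  obtain ⟨t1, n1, h1⟩ := step hf hS hC good1 hn
  obtain ⟨t2, n2, h2⟩ := step hf hS hC good2 hn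
  haveI := (hS.to_subgroup 𝐍[f.range]).isNilpotent
  haveI := normal_subgroupOf' (le_refl 𝐍[f.range])
  obtain ⟨⟨_, hq⟩, ⟨p, rfl⟩, hp, hc⟩ := Grp.PChain.exists_central_mod (f.range.subgroupOf 𝐍[f.range])
    ((zpowers (f (a 2, 1))).subgroupOf 𝐍[f.range]) fun e =>
      absurd ((Z_iff hf).1 (e (x := ⟨f (a 1, 1), le_normalizer ⟨_, rfl⟩⟩) ⟨_, rfl⟩)) (by decide)
  refine hp ((Z_iff hf).2 (inter p (h1 p ?_) (h2 p ?_)))
  · rw [HB.cm_inv_comm]; exact inv_mem (hc ⟨t1, n1⟩)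
  · rw [HB.cm_inv_comm]; exact inv_mem (hc ⟨t2, n2⟩)

end Cfsg.Agent.MacW.QQ
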