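import Mathlib
import Cfsg.Agent.MacW.Har1

set_option autoImplicit false

/-! Harada's theorem: the case where `A ⊓ C` has order four. -/

namespace Cfsg.Agent.MacW
open Cfsg Subgroup
open scoped commutatorElement

variable {P : Type*} [Group P]

theorem card_ge_hom [Finite P] {U B F : Subgroup P} (f : P → P)
    (hf : ∀ u ∈ U, ∀ v ∈ U, f (u * v) = f u * f v) (hB : ∀ b ∈ B, ∃ u ∈ U, f u = b)
    (hF : ∀ u ∈ F, u ∈ U ∧ f u = 1) : Nat.card B * Nat.card F ≤ Nat.card U := by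
  let φ : U →* P := MonoidHom.mk' (fun u => f u) fun u v => hf u u.2 v v.2
  have h1 := card_eq_card_quotient_mul_card_subgroup φ.ker
  rw [Nat.card_congr (QuotientGroup.quotientKerEquivRange φ).toEquiv] at h1
  have h2 : Nat.card F ≤ Nat.card φ.ker :=
    Nat.card_le_card_of_injective (fun x : F => (⟨⟨x, (hF x x.2).1⟩, (hF x x.2).2⟩ : φ.ker))
      fun x y e => Subtype.ext (congrArg (fun z : φ.ker => (z.1 : P)) e)
  have h3 : B ≤ φ.range := fun b hb => by
    obtain ⟨u, hu, e⟩ := hB b hb; exact ⟨⟨u, hu⟩, e⟩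
  rw [h1]; exact Nat.mul_le_mul (card_le_of_le h3) h2

/-- Elements of an abelian subgroup inverted by `a`. -/
def invd (X : Subgroup P) (hc : ∀ a ∈ X, ∀ b ∈ X, a * b = b * a) (a : P) : Subgroup P where
  carrier := {x | x ∈ X ∧ a * x * a⁻¹ = x⁻¹}
  one_mem' := ⟨one_mem _, by simp⟩
  mul_mem' := fun {x y} hx hy => ⟨mul_mem hx.1 hy.1, by
    rw [hc x hx.1 y hy.1, mul_inv_rev, ← hx.2, ← hy.2, hc y hy.1 x hx.1]; group⟩
  inv_mem' := fun {x} hx => ⟨inv_mem hx.1, by rw [← hx.2]; nth_rewrite 1 [hx.2]; group⟩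

theorem card_norm [Finite P] {X B : Subgroup P} (hn : X.Normal)
    (hc : ∀ a ∈ X, ∀ b ∈ X, a * b = b * a) {a : P} (hB : ∀ b ∈ B, ∃ x ∈ X, x * (a * x * a⁻¹) = b) :
    Nat.card B * Nat.card (invd X hc a) ≤ Nat.card X :=
  card_ge_hom (fun x => x * (a * x * a⁻¹)) (fun u hu v hv => by
    have := hc _ hv _ (hn.conj_mem u hu a)
    calc u * v * (a * (u * v) * a⁻¹) = u * (v * (a * u * a⁻¹)) * (a * v * a⁻¹) := by group
      _ = _ := by rw [this]; group) hB fun u hu => ⟨hu.1, by rw [hu.2, mul_inv_cancel]⟩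

theorem cent_bound [Finite P] {X B : Subgroup P} [hn : X.Normal]
    (hc : ∀ a ∈ X, ∀ b ∈ X, a * b = b * a) {a : P} (ha : a ^ 2 = 1)
    (hB : ∀ b ∈ B, ∃ x ∈ X, x * (a * x * a⁻¹) = b) :
    Nat.card (centralizer ({(a : P ⧸ X)} : Set (P ⧸ X))) * Nat.card B ≤
      Nat.card (centralizer ({a} : Set P)) := by
  have h1 := card_norm hn hc hB
  have h2 := Grp.card_comap_of_surjective _ (QuotientGroup.mk'_surjective X)
    (centralizer ({(a : P ⧸ X)} : Set (P ⧸ X)))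
  rw [QuotientGroup.ker_mk'] at h2
  have h3 := card_le_cm ((centralizer ({(a : P ⧸ X)} : Set (P ⧸ X))).comap (QuotientGroup.mk' X))
    (invd X hc a) (a := a) fun u hu => ⟨(QuotientGroup.eq_one_iff _).1
      (cm_eq_one.2 (mem_centralizer_singleton_iff.1 hu).symm), inv_cm ha u⟩
  replace h3 := h3.trans (Nat.mul_le_mul_left _ (card_le_of_le inf_le_right))
  refine Nat.le_of_mul_le_mul_left ?_ (Nat.card_pos (α := invd X hc a))
  calc _ = _ * (Nat.card B * Nat.card (invd X hc a)) := by ring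
    _ ≤ _ := Nat.mul_le_mul_left _ h1
    _ ≤ _ := h2 ▸ h3

theorem inv_eq_cm [Finite P] {X : Subgroup P} (hn : X.Normal)
    (hc : ∀ a ∈ X, ∀ b ∈ X, a * b = b * a) {a : P} (ha : a ^ 2 = 1)
    (hB : ∀ b ∈ X ⊓ centralizer {a}, ∃ x ∈ X, x * (a * x * a⁻¹) = b) {x : P} (hx : x ∈ X)
    (hi : a * x * a⁻¹ = x⁻¹) : ∃ c ∈ X, cm a c = x :=
  range_eq hn hc le_rfl (B := invd X hc a)
    (fun u hu => ⟨mul_mem (hn.conj_mem u hu a) (inv_mem hu), inv_cm ha u⟩)
    (by rw [mul_comm]; exact card_norm hn hc hB) x ⟨hx, hi⟩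

/-- The hypotheses of Harada's theorem. -/
structure Har {W : Subgroup P} (h : MaxW W) (A : Subgroup P) : Prop where
  sq : ∀ a ∈ A, a ^ 2 = 1
  comm : ∀ a ∈ A, ∀ b ∈ A, a * b = b * a
  card : Nat.card A = 8
  cent : ∀ s, (∀ a ∈ A, s * a = a * s) → s ∈ A
  big : 8 ≤ Nat.card h.V

namespace Har
variable [Finite P] {W A : Subgroup P} {h : MaxW W} (r : Har h A)
include r

local notation "C" => centralizer (W : Set P)

theorem A0_le : A ⊓ C ≤ h.V := fun _ hx => h.mem_V_of_sq hx.2 (r.sq _ hx.1)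

theorem central_mem {z : P} (hz : z ∈ W) (hc : ∀ g, g * z * g⁻¹ = z) : z ∈ A ⊓ C :=
  ⟨r.cent z fun a _ => by nth_rewrite 1 [← hc a]; group, h.W_le_C hz⟩

section four
variable (h4 : Nat.card (A ⊓ C : Subgroup P) = 4) {a : P} (ha : a ∈ A) (haC : a ∉ C)
include h4 ha haC

theorem mem_A {s : P} (hs : s * a = a * s) (h0 : ∀ x ∈ A ⊓ C, s * x = x * s) : s ∈ A := by
  refine r.cent s fun x hx => ?_
  rcases mem_or_of_card (inf_le_left : A ⊓ C ≤ A) (by rw [r.card, h4]) ha (fun e => haC e.2) hx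
    with e | e
  · exact h0 x e
  · have := h0 _ e
    rw [mul_assoc x, ← hs, ← mul_assoc, ← mul_assoc] at this
    exact mul_right_cancel this

theorem mem_A0 {s : P} (hsC : s ∈ C) (hs : s * a = a * s) : s ∈ A ⊓ C :=
  ⟨r.mem_A h4 ha haC hs fun x hx => (hsC x (r.A0_le hx).1).symm, hsC⟩

theorem inf_eq {U : Subgroup P} (h1 : h.V ≤ U) (h2 : U ≤ C) : U ⊓ centralizer {a} = A ⊓ C :=
  le_antisymm (fun _ hx => r.mem_A0 h4 ha haC (h2 hx.1) (mem_centralizer_singleton_iff.1 hx.2))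
    fun _ hx => ⟨h1 (r.A0_le hx), mem_centralizer_singleton_iff.2 (r.comm _ hx.1 _ ha)⟩

theorem cm_mem_A0 {s : P} (hs : cm a s ∈ h.V) : cm a s ∈ A ⊓ C :=
  r.mem_A0 h4 ha haC (h.W_le_C hs.1) (comm_of_inv hs.2 (inv_cm (r.sq a ha) s))

variable {z v : P} (hz : z ∈ A ⊓ C) (hzc : ∀ g, g * z * g⁻¹ = z) (hz1 : z ≠ 1) (hv : v ∈ A ⊓ C)
  (hv1 : v ≠ 1) (hvz : v ≠ z)
include hz hz1 hv hv1 hvz

omit ha haC in
theorem four {x : P} (hx : x ∈ A ⊓ C) : x = 1 ∨ x = z ∨ x = v ∨ x = z * v :=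
  eq_of_card_le_four h4.le hz hv hx hz1 hv1 hvz (r.sq z hz.1)

include hzc

theorem mem_A' {t : P} (ht : t * a = a * t) (htv : t * v = v * t) : t ∈ A := by
  have hc : Commute t z := by
    show t * z = z * t
    nth_rewrite 2 [← hzc t]; group
  refine r.mem_A h4 ha haC ht fun x hx => ?_
  rcases r.four h4 hz hz1 hv hv1 hvz hx with rfl | rfl | rfl | rfl
  · simp
  · exact hc
  · exact htv
  · exact hc.mul_right htv

theorem card_T : Nat.card (centralizer ({a} : Set P)) ≤ 16 := by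
  have h1 := card_le_cm (centralizer ({a} : Set P)) (zpowers z) (a := v) fun t ht => by
    have ht' : Commute t a := mem_centralizer_singleton_iff.1 ht
    have hm := r.mem_A0 h4 ha haC (h.C_normal.conj_mem v hv.2 t)
      ((ht'.mul_left (r.comm v hv.1 a ha)).mul_left ht'.inv_left)
    have e : cm v t = v * (t * v * t⁻¹)⁻¹ := by unfold cm; group
    rw [e]
    rcases r.four h4 hz hz1 hv hv1 hvz hm with e | e | e | e
    · exact absurd (conj_eq_one_iff.1 e) hv1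
    · rw [← hzc t, mul_left_inj, mul_right_inj] at e; exact absurd e hvz
    · rw [e, mul_inv_cancel]; exact one_mem _
    · rw [e]; simpa using inv_mem (mem_zpowers z)
  have h2 : Nat.card (centralizer ({a} : Set P) ⊓ centralizer {v} : Subgroup P) ≤ 8 :=
    r.card ▸ card_le_of_le fun t ht => r.mem_A' h4 ha haC hz hzc hz1 hv hv1 hvz
      (mem_centralizer_singleton_iff.1 ht.1) (mem_centralizer_singleton_iff.1 ht.2)
  exact h1.trans (Nat.mul_le_mul (card_zpowers_le (r.sq z hz.1)) h2)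

omit hz hzc hz1 hv hv1 hvz in
theorem not_mem_A {t c : P} (hc : c ∈ C) (h1 : t ∉ C) (h2 : a⁻¹ * t ∉ C) : c⁻¹ * t ∉ A := fun e => by
  rcases mem_or_of_card (inf_le_left : A ⊓ C ≤ A) (by rw [r.card, h4]) (inv_mem ha)
    (fun e => haC (inv_mem_iff.1 (mem_inf.1 e).2)) e with e | e
  · exact h1 (by simpa using mul_mem hc e.2)
  · exact h2 (by simpa [mul_assoc] using h.C_normal.conj_mem _ (mul_mem hc e.2) a⁻¹)

end four

theorem exists_zv (h4 : Nat.card (A ⊓ C : Subgroup P) = 4) {z : P} (hz : z ∈ A ⊓ C) :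
    ∃ v ∈ A ⊓ C, v ≠ 1 ∧ v ≠ z := by
  by_contra hcon
  push Not at hcon
  have : A ⊓ C ≤ zpowers z := fun v hv => by
    by_cases e : v = 1
    · rw [e]; exact one_mem _
    · rw [hcon v hv e]; exact mem_zpowers z
  have := (card_le_of_le this).trans (card_zpowers_le (r.sq z hz.1))
  omega

theorem exists_z : ∃ z ∈ A ⊓ C, z ≠ 1 ∧ ∀ g, g * z * g⁻¹ = z := by
  haveI := h.two.isNilpotent
  haveI := h.V_normal
  obtain ⟨z, hz, hz1, hzc⟩ := Grp.PChain.exists_central_mod h.V ⊥ fun e => by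
    have := r.big; rw [le_bot_iff.1 e, card_bot] at this; omega
  have hzc' : ∀ g : P, g * z * g⁻¹ = z := fun g => by
    have := commutatorElement_eq_one_iff_mul_comm.1 (mem_bot.1 (hzc g))
    rw [← this, mul_inv_cancel_right]
  exact ⟨z, r.central_mem hz.1 hzc', by simpa using hz1, hzc'⟩

variable {H N : Subgroup P} (hNH : N ≤ H) (hc : ∀ x ∈ H, ∀ y ∈ H, cm x y ∈ N)
  (hs : ∀ x ∈ H, x ^ 2 ∈ N)
include hc

omit r in
theorem key16 (hC : C ≤ h.V) {x : P} (hx : x ∈ H)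
    (h4 : Nat.card (h.V ⊓ centralizer {x} : Subgroup P) ≤ 4) :
    Nat.card (H ⊓ C : Subgroup P) ≤ 4 * Nat.card (N ⊓ C : Subgroup P) := by
  have := card_le_cm (H ⊓ C) (N ⊓ C) (a := x) fun u hu =>
    mem_inf.2 ⟨hc x hx u hu.1, mul_mem (h.C_normal.conj_mem u hu.2 x) (inv_mem (mem_inf.1 hu).2)⟩
  rw [mul_comm]
  exact this.trans (Nat.mul_le_mul_left _ ((card_le_of_le
    (inf_le_inf_right _ (inf_le_right.trans hC))).trans h4))

omit r hc in
theorem inf_mul_C (x : P) {c : P} (hc : c ∈ C) :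
    h.V ⊓ centralizer {x * c} = h.V ⊓ centralizer {x} := by
  ext v
  simp only [mem_inf, mem_centralizer_singleton_iff]
  refine and_congr_right fun hv => ?_
  rw [eq_comm, ← cm_eq_one, MaxW.cm_mul_C x hc hv.1, cm_eq_one, eq_comm]

include hs

theorem case4_16 (h4 : Nat.card (A ⊓ C : Subgroup P) = 4) {a : P} (ha : a ∈ A) (haC : a ∉ C)
    (h8 : 8 < Nat.card h.V) : Nat.card H ≤ 16 * Nat.card N := by
  haveI := h.V_normal
  haveI := h.normal
  haveI := h.C_normal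
  haveI := h.two.isNilpotent
  have ha2 := r.sq a ha
  have hVT := r.inf_eq h4 ha haC le_rfl (h.V_le.trans h.W_le_C)
  have h16 : Nat.card h.V ≤ 16 := by
    have := h.card_le_sq_cent le_rfl ha2 fun u hu => h.V_normal.conj_mem u hu a
    rwa [hVT, h4] at this
  have h16' : 16 ≤ Nat.card h.V := by
    by_contra hlt
    have := card_le_of_lt h.two h.V 3 (by omega)
    omega
  have hfree := range_eq h.normal h.comm h.V_le (B := A ⊓ C) (a := a)
    (fun u hu => r.cm_mem_A0 h4 ha haC (h.cm_mem_V' a hu)) (by rw [hVT, h4]; exact h16')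
  have hW : W ≤ h.V := by
    by_contra hne
    obtain ⟨w, hw, hwV, hcw⟩ := Grp.PChain.exists_central_mod W h.V hne
    have h1 : cm a w ∈ h.V := by
      convert inv_mem (hcw a) using 1; rw [commutatorElement_def]; unfold cm; group
    obtain ⟨v, hv, e⟩ := hfree _ (r.cm_mem_A0 h4 ha haC h1)
    have := r.A0_le (r.mem_A0 h4 ha haC (h.W_le_C (mul_mem (inv_mem hv.1) hw)) (adj_comm e.symm))
    exact hwV (by simpa using mul_mem hv this)
  have hC := h.C_le_V hW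
  have hCc : ∀ a ∈ C, ∀ b ∈ C, a * b = b * a := fun x hx y hy => h.comm x (hC hx).1 y (hC hy).1
  have hNm : ∀ b ∈ A ⊓ C, ∃ x ∈ C, x * (a * x * a⁻¹) = b := fun b hb => by
    obtain ⟨v, hv, e⟩ := hfree b hb
    refine ⟨v, h.W_le_C hv.1, ?_⟩
    rw [← e, h.comm _ hv.1 _ (h.normal.conj_mem v hv.1 a), cm, mul_right_inj, eq_inv_iff_mul_eq_one,
      ← _root_.sq, hv.2]
  obtain ⟨z, hz, hz1, hzc⟩ := r.exists_z
  obtain ⟨v, hv, hv1, hvz⟩ := r.exists_zv h4 hz
  have hb := (cent_bound hCc ha2 hNm).trans (r.card_T h4 ha haC hz hzc hz1 hv hv1 hvz)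
  rw [h4] at hb
  refine h.fin haC ha2 (by omega) (Or.inr ⟨h16, hC⟩) hc hs ?_
  rintro (⟨c, hcC, hm⟩ | ⟨t, ht, h1, h2, h3, -⟩)
  · exact key16 hc hC hm (by rw [inf_mul_C a hcC, hVT, h4])
  · refine key16 hc hC ht ?_
    obtain ⟨c, hcV, e⟩ := hfree _ (r.cm_mem_A0 h4 ha haC (hC h3))
    have hcC := h.W_le_C hcV.1
    have hs1 : Commute (c⁻¹ * t) a := adj_comm e.symm
    have hsA := r.not_mem_A h4 ha haC hcC h1 h2
    have e1 : t = (c⁻¹ * t) * ((c⁻¹ * t)⁻¹ * c * (c⁻¹ * t)⁻¹⁻¹) := by group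
    rw [e1, inf_mul_C _ (h.C_normal.conj_mem c hcC _)]
    set s := c⁻¹ * t
    have h5 := h.card_le_sq_cent (U := h.V ⊓ centralizer {s}) inf_le_left ha2 fun u hu =>
      ⟨h.V_normal.conj_mem u hu.1 a, mem_centralizer_singleton_iff.2
        ((hs1.symm.mul_left (mem_centralizer_singleton_iff.1 hu.2)).mul_left hs1.symm.inv_left)⟩
    have h6 : h.V ⊓ centralizer {s} ⊓ centralizer {a} ≤ zpowers z := fun u hu => by
      have hu0 : u ∈ A ⊓ C := hVT ▸ ⟨hu.1.1, hu.2⟩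
      have hus : Commute s u := (mem_centralizer_singleton_iff.1 hu.1.2).symm
      have hsz : Commute s z := by
        show s * z = z * s
        nth_rewrite 2 [← hzc s]; group
      rcases r.four h4 hz hz1 hv hv1 hvz hu0 with rfl | rfl | rfl | rfl
      · exact one_mem _
      · exact mem_zpowers _
      · exact absurd (r.mem_A' h4 ha haC hz hzc hz1 hv hv1 hvz hs1 hus) hsA
      · refine absurd (r.mem_A' h4 ha haC hz hzc hz1 hv hv1 hvz hs1 ?_) hsA
        simpa using hsz.inv_right.mul_right hus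
    have h7 := (card_le_of_le h6).trans (card_zpowers_le (r.sq z hz.1))
    exact h5.trans (Nat.mul_le_mul h7 h7)

end Har
end Cfsg.Agent.MacW
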